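import Groth.Prelude.Def_W4c1imperftorsorsPerf
import Mathlib.Algebra.Module.Projective
import Mathlib.LinearAlgebra.DirectSum.Finsupp

/-!
# Projective modules and inverse limits
-/

set_option autoImplicit false
universe u v w

open TensorProduct

namespace Groth.Agent.PrePerf23

section General

variable {R : Type u} [CommRing R] {M : Type v} [AddCommGroup M] [Module R M]
  {L : Type w} [AddCommGroup L] [Module R L] {ι : Type*} {N : ι → Type*} [∀ i, AddCommGroup (N i)]
  [∀ i, Module R (N i)] (f : ∀ i, L →ₗ[R] N i)

/-- Pairing an element of `M ⊗ L` with a functional on `M`. -/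
noncomputable def pairing (L : Type w) [AddCommGroup L] [Module R L] (φ : M →ₗ[R] R) :
    M ⊗[R] L →ₗ[R] L :=
  (TensorProduct.lid R L).toLinearMap ∘ₗ φ.rTensor L

lemma pairing_natural {L' : Type*} [AddCommGroup L'] [Module R L'] (g : L →ₗ[R] L') (φ : M →ₗ[R] R)
    (z : M ⊗[R] L) :
    g (pairing L φ z) = (TensorProduct.lid R L') (φ.rTensor L' (g.lTensor M z)) := by
  induction z using TensorProduct.induction_on with
  | zero => simp
  | add x y hx hy => simp only [map_add, hx, hy]
  | tmul m l => simp [pairing]

theorem eq_zero_of_pairing [Module.Projective R M] (z : M ⊗[R] L)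
    (h : ∀ φ : M →ₗ[R] R, pairing L φ z = 0) : z = 0 := by
  classical
  obtain ⟨s, hs⟩ := (Module.projective_def' (R := R) (P := M)).mp inferInstance
  have hinj : z = (Finsupp.linearCombination R id).rTensor L (s.rTensor L z) := by
    rw [← LinearMap.comp_apply, ← LinearMap.rTensor_comp, hs, LinearMap.rTensor_id,
      LinearMap.id_apply]
  suffices s.rTensor L z = 0 by rw [hinj, this, map_zero]
  apply (TensorProduct.finsuppScalarLeft R L M).injective
  ext m
  rw [map_zero, Finsupp.zero_apply]
  refine Eq.trans ?_ (h ((Finsupp.lapply m).comp s))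
  clear h hinj
  induction z using TensorProduct.induction_on with
  | zero => simp
  | add x y hx hy => simp only [map_add, Finsupp.add_apply, hx, hy]
  | tmul x l => simp [pairing]

/-- Tensoring with a projective module preserves joint injectivity. -/
theorem injective_pi_lTensor [Module.Projective R M]
    (hf : ∀ x, (∀ i, f i x = 0) → x = 0) :
    Function.Injective (LinearMap.pi fun i => (f i).lTensor M) := by
  rw [injective_iff_map_eq_zero]
  intro z hz
  refine eq_zero_of_pairing z fun φ => hf _ fun i => ?_
  rw [pairing_natural, show (f i).lTensor M z = 0 from congrFun hz i]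
  simp

end General

variable (p : ℕ) [Fact p.Prime] (R : Type u) [CommRing R] [CharP R p]
  (A : Type v) [CommRing A] [Algebra R A] [CharP A p]

lemma mem_prePerf (x : Π j : ℕ, W4c1imperftorsors.Twist p R A j) :
    x ∈ W4c1imperftorsors.prePerf p R A ↔
      ∀ j, W4c1imperftorsors.relFrob p R A j (x (j + 1)) = x j := by
  simp [W4c1imperftorsors.prePerf, Algebra.mem_iInf]

/-- The projection from the preperfection. -/
noncomputable def proj (i : ℕ) :
    ↥(W4c1imperftorsors.prePerf p R A) →ₗ[R] W4c1imperftorsors.Twist p R A i :=
  ((Pi.evalAlgHom R (fun k => W4c1imperftorsors.Twist p R A k) i).comp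
    (W4c1imperftorsors.prePerf p R A).val).toLinearMap

lemma proj_jointly_injective (x : ↥(W4c1imperftorsors.prePerf p R A))
    (h : ∀ i, proj p R A i x = 0) : x = 0 :=
  Subtype.ext (funext h)

end Groth.Agent.PrePerf23
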